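import Groth.Agent.FinCov99.Cover
import Groth.Prelude.Def_FlatMod2

/-!
Finite locally free morphisms and finite locally free direct images, ranks not fixed.
-/

set_option autoImplicit false
set_option linter.style.haveILetI false
set_option backward.isDefEq.respectTransparency.types false
set_option maxHeartbeats 400000

universe u

open CategoryTheory Limits AlgebraicGeometry TopologicalSpace
open Groth.Agent.QC70 Groth.Agent.Props58.LocFree

noncomputable section

namespace Groth.Agent.FinLF57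

open FinCov99

variable {X Y : Scheme.{u}}

theorem isFinLocFree_of_free (f : X ⟶ Y)
    (h : ∀ y : Y, ∃ V : Y.Opens, IsAffineOpen V ∧ y ∈ V ∧ IsAffineOpen (f ⁻¹ᵁ V) ∧
      letI := (f.app V).hom.toAlgebra
      ∃ (d : ℕ) (_b : Module.Basis (Fin d) Γ(Y, V) Γ(X, f ⁻¹ᵁ V)), True) :
    Mor2.IsFinLocFree f := by
  choose V hV hyV hU d hb using h
  have hcov : (⨆ y, V y) = ⊤ := top_le_iff.mp fun y _ => Opens.mem_iSup.mpr ⟨y, hyV y⟩
  have hfin : IsFinite f := by
    refine IsZariskiLocalAtTarget.of_iSup_eq_top (P := @IsFinite) V hcov fun y => ?_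
    haveI : IsAffine (V y).toScheme := hV y
    haveI : IsAffine (f ⁻¹ᵁ V y).toScheme := hU y
    rw [HasAffineProperty.iff_of_isAffine (P := @IsFinite)]
    refine ⟨inferInstance, ?_⟩
    obtain ⟨b, -⟩ := hb y
    letI := (f.app (V y)).hom.toAlgebra
    have h1 : (f.app (V y)).hom.Finite := Module.Finite.of_basis b
    exact (RingHom.finite_respectsIso.arrow_mk_iso_iff (Arrow.isoMk
      ((V y).topIso) ((f ⁻¹ᵁ V y).topIso) (topIso_comm f (V y)))).mpr h1
  have hflat : Flat f := by
    refine IsZariskiLocalAtTarget.of_iSup_eq_top (P := @Flat) V hcov fun y => ?_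
    haveI : IsAffine (V y).toScheme := hV y
    haveI : IsAffine (f ⁻¹ᵁ V y).toScheme := hU y
    rw [HasRingHomProperty.iff_of_isAffine (P := @Flat)]
    obtain ⟨b, -⟩ := hb y
    letI := (f.app (V y)).hom.toAlgebra
    haveI : Module.Free Γ(Y, V y) Γ(X, f ⁻¹ᵁ V y) := Module.Free.of_basis b
    have h1 : (f.app (V y)).hom.Flat := (inferInstance : Module.Flat Γ(Y, V y) Γ(X, f ⁻¹ᵁ V y))
    exact (RingHom.Flat.respectsIso.arrow_mk_iso_iff (Arrow.isoMk
      ((V y).topIso) ((f ⁻¹ᵁ V y).topIso) (topIso_comm f (V y)))).mpr h1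
  have hlfp : LocallyOfFinitePresentation f := by
    refine IsZariskiLocalAtTarget.of_iSup_eq_top (P := @LocallyOfFinitePresentation) V hcov fun y => ?_
    haveI : IsAffine (V y).toScheme := hV y
    haveI : IsAffine (f ⁻¹ᵁ V y).toScheme := hU y
    rw [HasRingHomProperty.iff_of_isAffine (P := @LocallyOfFinitePresentation)]
    obtain ⟨b, -⟩ := hb y
    letI := (f.app (V y)).hom.toAlgebra
    haveI : Module.Free Γ(Y, V y) Γ(X, f ⁻¹ᵁ V y) := Module.Free.of_basis b
    haveI : Module.Finite Γ(Y, V y) Γ(X, f ⁻¹ᵁ V y) := Module.Finite.of_basis b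
    haveI : Module.FinitePresentation Γ(Y, V y) Γ(X, f ⁻¹ᵁ V y) :=
      Module.finitePresentation_of_projective _ _
    have h1 : (f.app (V y)).hom.FinitePresentation :=
      (inferInstance : Algebra.FinitePresentation Γ(Y, V y) Γ(X, f ⁻¹ᵁ V y))
    exact (RingHom.finitePresentation_respectsIso.arrow_mk_iso_iff (Arrow.isoMk
      ((V y).topIso) ((f ⁻¹ᵁ V y).topIso) (topIso_comm f (V y)))).mpr h1
  exact ⟨hfin, hflat, hlfp⟩

theorem iff_pushforward (f : X ⟶ Y) :
    (IsAffineHom f ∧ FlatMod.IsFinLocFree ((Scheme.Modules.pushforward f).obj (Coh.structureModule X))) ↔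
      Mor2.IsFinLocFree f := by
  constructor
  · rintro ⟨hf, hL⟩
    refine isFinLocFree_of_free f fun y => ?_
    obtain ⟨U, n, hyU, ⟨e⟩⟩ := hL y
    obtain ⟨V, hV, hyV, hVU⟩ := exists_isAffineOpen_mem_and_subset (X := Y) (U := U) hyU
    refine ⟨V, hV, hyV, hV.preimage f, ?_⟩
    letI := (f.app V).hom.toAlgebra
    obtain ⟨b, -⟩ := exists_basis_sections _ e hVU
    let ψ : Γ((Scheme.Modules.pushforward f).obj (Coh.structureModule X), V) ≃ₗ[Γ(Y, V)]
        Γ(X, f ⁻¹ᵁ V) :=
      { toFun := fun s => s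
        invFun := fun s => s
        left_inv := fun _ => rfl
        right_inv := fun _ => rfl
        map_add' := fun _ _ => rfl
        map_smul' := fun _ _ => rfl }
    exact ⟨n, b.map ψ, trivial⟩
  · rintro ⟨hfin, hflat, hlfp⟩
    haveI := hfin; haveI := hflat; haveI := hlfp
    refine ⟨inferInstance, ?_⟩
    haveI : (Coh.structureModule X).IsQuasicoherent := QC70.isQuasicoherent_unit
    haveI : ((Scheme.Modules.pushforward f).obj (Coh.structureModule X)).IsQuasicoherent :=
      QCqs72.isQuasicoherent_pushforward (Coh.structureModule X) f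
    refine FlatMor68.LocFree.isFinLocFree_of_projective_sections _ fun y => ?_
    obtain ⟨U, hU, hy, -⟩ := exists_isAffineOpen_mem_and_subset (X := Y) (x := y) (U := ⊤) trivial
    refine ⟨U, hU, hy, ?_⟩
    letI : Algebra Γ(Y, U) Γ(X, f ⁻¹ᵁ U) := (f.app U).hom.toAlgebra
    haveI : Module.Finite Γ(Y, U) Γ(X, f ⁻¹ᵁ U) := IsFinite.finite_app f U hU
    haveI : Module.Flat Γ(Y, U) Γ(X, f ⁻¹ᵁ U) := by
      have := Flat.flat_appLE f hU (hU.preimage f) le_rfl
      rwa [← Scheme.Hom.app_eq_appLE] at this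
    haveI : Algebra.FinitePresentation Γ(Y, U) Γ(X, f ⁻¹ᵁ U) := by
      have := LocallyOfFinitePresentation.finitePresentation_appLE f hU (hU.preimage f) le_rfl
      rwa [← Scheme.Hom.app_eq_appLE] at this
    haveI : Module.FinitePresentation Γ(Y, U) Γ(X, f ⁻¹ᵁ U) :=
      Module.FinitePresentation.of_finite_of_finitePresentation _ _
    haveI : Module.Projective Γ(Y, U) Γ(X, f ⁻¹ᵁ U) := Module.Flat.projective_of_finitePresentation
    let e : Γ((Scheme.Modules.pushforward f).obj (Coh.structureModule X), U) ≃ₗ[Γ(Y, U)]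
        Γ(X, f ⁻¹ᵁ U) :=
      { toFun := fun s => s
        invFun := fun s => s
        left_inv := fun _ => rfl
        right_inv := fun _ => rfl
        map_add' := fun _ _ => rfl
        map_smul' := fun _ _ => rfl }
    exact ⟨Module.Projective.of_equiv e.symm, Module.Finite.equiv e.symm⟩

end Groth.Agent.FinLF57
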